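import Mathlib
import Groth.Prelude.Def_W4c5flasquetoriphsGLat

/-! Coflasque resolutions of modules over finite groups. -/

set_option autoImplicit false

namespace Groth.Agent.GLatLib

open Finsupp

variable {G : Type} [Group G]

/-- the permutation representation on a free module -/
noncomputable def permRep (ι : Type) [MulAction G ι] : Representation ℤ G (ι →₀ ℤ) where
  toFun g := Finsupp.lmapDomain ℤ ℤ (fun x => g • x)
  map_one' := by ext x; simp
  map_mul' a b := by ext x; simp [mul_smul]

theorem permRep_apply_apply {ι : Type} [MulAction G ι] (g : G) (m : ι →₀ ℤ) (x : ι) :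
    permRep ι g m x = m (g⁻¹ • x) := by
  show Finsupp.mapDomain (fun x => g • x) m x = _
  conv_lhs => rw [show x = (fun x => g • x) (g⁻¹ • x) from (smul_inv_smul g x).symm]
  exact Finsupp.mapDomain_apply (MulAction.injective g) m _

theorem permRep_single {ι : Type} [MulAction G ι] (g : G) (x : ι) :
    permRep ι g (Finsupp.single x 1) = Finsupp.single (g • x) 1 := by
  show Finsupp.mapDomain (fun x => g • x) (Finsupp.single x 1) = _
  rw [Finsupp.mapDomain_single]

theorem isPermutation_permRep (ι : Type) [MulAction G ι] : GLat.IsPermutation (permRep (G := G) ι) :=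
  ⟨ι, Finsupp.basisSingleOne, fun g i => ⟨g • i, by
    simp only [Finsupp.coe_basisSingleOne]; exact permRep_single g i⟩⟩

variable [Finite G]

theorem coflasque_permRep (ι : Type) [Finite ι] [MulAction G ι] : GLat.IsCoflasque (permRep (G := G) ι) := by
  classical
  intro H f hf
  haveI := Fintype.ofFinite H
  haveI := Fintype.ofFinite ι
  let n : ℤ := Fintype.card H
  have hn : n ≠ 0 := Nat.cast_ne_zero.2 Fintype.card_ne_zero
  let N : ι → ℤ := fun x => -∑ b : H, f b x
  have hN : ∀ (a : H) (x : ι), N ((a : G)⁻¹ • x) = N x + f a x * n := by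
    intro a x
    have h1 : ∀ b : H, f b ((a : G)⁻¹ • x) = f (a * b) x - f a x := fun b => by
      rw [hf, Finsupp.add_apply, permRep_apply_apply]; ring
    simp only [N, h1, Finset.sum_sub_distrib, Finset.sum_const, Finset.card_univ]
    rw [Fintype.sum_equiv (Equiv.mulLeft a) (fun b => f (a * b) x) (fun b => f b x) (fun b => rfl)]
    simp only [n, nsmul_eq_mul]; ring
  refine ⟨Finsupp.equivFunOnFinite.symm fun x => N x / n, fun a => ?_⟩
  ext x
  rw [Finsupp.sub_apply, permRep_apply_apply]
  simp only [Finsupp.coe_equivFunOnFinite_symm, hN, Int.add_mul_ediv_right _ _ hn]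
  ring

variable {A : Type} [AddCommGroup A] [Module.Finite ℤ A]

/-- A finitely generated module has a permutation cover which is onto on all fixed points. -/
theorem exists_cover (ρ : Representation ℤ G A) :
    ∃ (ι : Type) (_ : Finite ι) (_ : MulAction G ι) (π : (ι →₀ ℤ) →ₗ[ℤ] A),
      GLat.IsEquivariant (permRep ι) ρ π ∧
      ∀ (H : Subgroup G) (a : A), (∀ h ∈ H, ρ h a = a) →
        ∃ p : ι →₀ ℤ, (∀ h ∈ H, permRep ι h p = p) ∧ π p = a := by
  classical
  let fix : Subgroup G → Submodule ℤ A := fun H =>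
    { carrier := {a | ∀ h ∈ H, ρ h a = a}
      add_mem' := fun ha hb h hh => by rw [map_add, ha h hh, hb h hh]
      zero_mem' := fun h _ => map_zero _
      smul_mem' := fun c a ha h hh => by rw [map_smul, ha h hh] }
  choose S hS using fun H => IsNoetherian.noetherian (fix H)
  let ι := Σ H : Subgroup G, ({a : A // a ∈ S H} × (G ⧸ H))
  letI act : MulAction G ι :=
    { smul := fun g p => ⟨p.1, p.2.1, g • p.2.2⟩
      one_smul := fun p => by show (⟨p.1, p.2.1, (1 : G) • p.2.2⟩ : ι) = p; rw [one_smul]
      mul_smul := fun g g' p => by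
        show (⟨p.1, p.2.1, (g * g') • p.2.2⟩ : ι) = ⟨p.1, p.2.1, g • g' • p.2.2⟩; rw [mul_smul] }
  haveI : Finite ι := inferInstance
  have hwd : ∀ (H : Subgroup G) (a : {a : A // a ∈ S H}) (g g' : G), QuotientGroup.leftRel H g g' → ρ g a.1 = ρ g' a.1 := by
    intro H a g g' hr
    have hfix : a.1 ∈ fix H := hS H ▸ Submodule.subset_span a.2
    rw [QuotientGroup.leftRel_apply] at hr
    have := hfix _ hr
    rw [map_mul, Module.End.mul_apply] at this
    conv_lhs => rw [← this]
    simp [← Module.End.mul_apply, ← map_mul]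
  let val : ι → A := fun p => Quotient.liftOn' p.2.2 (fun g => ρ g p.2.1.1) (hwd p.1 p.2.1)
  have hval : ∀ (g : G) (p : ι), val (g • p) = ρ g (val p) := by
    rintro g ⟨H, a, q⟩
    induction q using QuotientGroup.induction_on with
    | _ x => show ρ (g * x) a.1 = ρ g (ρ x a.1); rw [map_mul, Module.End.mul_apply]
  refine ⟨ι, inferInstance, act, Finsupp.linearCombination ℤ val, fun g m => ?_, fun H a ha => ?_⟩
  · induction m using Finsupp.induction_linear with
    | zero => simp
    | add x y hx hy => simp only [map_add, hx, hy]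
    | single p c =>
      rw [show Finsupp.single p c = c • Finsupp.single p (1 : ℤ) by simp, map_smul, map_smul, map_smul, map_smul,
        permRep_single, Finsupp.linearCombination_single, Finsupp.linearCombination_single, one_smul, one_smul, hval]
  · have hmem : a ∈ Submodule.span ℤ (S H : Set A) := (hS H).symm ▸ ha
    induction hmem using Submodule.span_induction with
    | mem b hb =>
      refine ⟨Finsupp.single ⟨H, ⟨b, hb⟩, ((1 : G) : G ⧸ H)⟩ 1, fun h hh => ?_, ?_⟩
      · rw [permRep_single]
        congr 1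
        show (⟨H, ⟨b, hb⟩, h • ((1 : G) : G ⧸ H)⟩ : ι) = _
        congr 2
        exact QuotientGroup.eq.2 (by simpa using H.inv_mem hh)
      · rw [Finsupp.linearCombination_single, one_smul]
        show ρ 1 b = b
        simp
    | zero => exact ⟨0, fun h _ => map_zero _, map_zero _⟩
    | add x y hx hy ihx ihy =>
      obtain ⟨p, hp, rfl⟩ := ihx (show x ∈ fix H from hS H ▸ hx)
      obtain ⟨q, hq, rfl⟩ := ihy (show y ∈ fix H from hS H ▸ hy)
      exact ⟨p + q, fun h hh => by rw [map_add, hp h hh, hq h hh], map_add _ _ _⟩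
    | smul c x hx ih =>
      obtain ⟨p, hp, rfl⟩ := ih (show x ∈ fix H from hS H ▸ hx)
      exact ⟨c • p, fun h hh => by rw [map_smul, hp h hh], map_smul _ _ _⟩

/-- Coflasque resolution. -/
theorem exists_coflasque_resolution (ρ : Representation ℤ G A) :
    ∃ (ι : Type) (_ : Finite ι) (_ : MulAction G ι) (π : (ι →₀ ℤ) →ₗ[ℤ] A)
      (σ : Representation ℤ G (LinearMap.ker π)),
      GLat.IsEquivariant σ (permRep ι) (LinearMap.ker π).subtype ∧ GLat.IsEquivariant (permRep ι) ρ π ∧
      Function.Surjective π ∧ GLat.IsCoflasque σ := by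
  obtain ⟨ι, hfin, act, π, hπ, hsur⟩ := exists_cover ρ
  let K := LinearMap.ker π
  have hinv : ∀ g : G, ∀ p ∈ K, permRep ι g p ∈ K := fun g p hp => by
    rw [LinearMap.mem_ker, hπ, LinearMap.mem_ker.1 hp, map_zero]
  let σ : Representation ℤ G K :=
    { toFun := fun g => (permRep ι g).restrict (hinv g)
      map_one' := by ext p : 2; simp
      map_mul' := fun g g' => by ext p : 2; simp [map_mul] }
  refine ⟨ι, hfin, act, π, σ, fun g p => rfl, hπ, fun a => ?_, fun H f hf => ?_⟩
  · obtain ⟨p, -, hp⟩ := hsur ⊥ a (fun h hh => by rw [Subgroup.mem_bot.1 hh]; simp)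
    exact ⟨p, hp⟩
  · obtain ⟨m, hm⟩ := coflasque_permRep ι H (fun a => (f a : ι →₀ ℤ)) fun a b => congrArg Subtype.val (hf a b)
    have hfix : ∀ h ∈ H, ρ h (π m) = π m := fun h hh => by
      have h1 := congrArg π (hm ⟨h, hh⟩)
      rw [LinearMap.mem_ker.1 (f ⟨h, hh⟩).2, map_sub, hπ] at h1
      exact sub_eq_zero.1 h1.symm
    obtain ⟨m', hm', hm''⟩ := hsur H (π m) hfix
    refine ⟨⟨m - m', by rw [LinearMap.mem_ker, map_sub, hm'', sub_self]⟩, fun a => Subtype.ext ?_⟩
    show (f a : ι →₀ ℤ) = permRep ι (a : G) (m - m') - (m - m')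
    rw [hm a, map_sub, hm' a a.2]
    abel

end Groth.Agent.GLatLib
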